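import Mathlib

/-!
# Derivations and components of the semistable node `V[x, y]/(xy - ϖ)` localised away from an element
-/

set_option autoImplicit false

universe u

open MvPolynomial

namespace Groth.Agent.H1Node

variable {V : Type u} [CommRing V] {ϖ : V}

local notation "P" => MvPolynomial (Fin 2) V
local notation "Q" ϖ:max => MvPolynomial (Fin 2) V ⧸ Ideal.span {(X 0 * X 1 - C ϖ : MvPolynomial (Fin 2) V)}

/-- The image of a polynomial in the localisation. -/
noncomputable abbrev ι (h : Q ϖ) : P →ₐ[V] Localization.Away h :=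
  (IsScalarTower.toAlgHom V (Q ϖ) (Localization.Away h)).comp (Ideal.Quotient.mkₐ V _)

theorem mk_X_mul : (Ideal.Quotient.mk (Ideal.span {(X 0 * X 1 - C ϖ : P)}) (X 0)) *
    Ideal.Quotient.mk _ (X 1) = algebraMap V (Q ϖ) ϖ := by
  rw [← map_mul, ← Ideal.Quotient.mk_algebraMap, Ideal.Quotient.eq]
  exact Ideal.subset_span rfl

theorem ι_X_mul (h : Q ϖ) : ι h (X 0) * ι h (X 1) = algebraMap V (Localization.Away h) ϖ := by
  show algebraMap (Q ϖ) (Localization.Away h) _ * algebraMap (Q ϖ) (Localization.Away h) _ = _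
  rw [← map_mul, IsScalarTower.algebraMap_apply V (Q ϖ) (Localization.Away h)]
  exact congrArg _ mk_X_mul

/-- Homomorphisms to the dual numbers with prescribed tangent vector. -/
theorem exists_dual (h : Q ϖ) {T : Type u} [CommRing T] [Algebra V T] (φ : Localization.Away h →ₐ[V] T) (u v : T)
    (huv : u * φ (ι h (X 1)) + φ (ι h (X 0)) * v = 0) :
    ∃ ψ : Localization.Away h →ₐ[V] DualNumber T, (∀ b, (ψ b).fst = φ b) ∧
      (ψ (ι h (X 0))).snd = u ∧ (ψ (ι h (X 1))).snd = v := by
  obtain ⟨a, ha⟩ : ∃ a, φ (ι h (X 0)) = a := ⟨_, rfl⟩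
  obtain ⟨b, hb⟩ : ∃ b, φ (ι h (X 1)) = b := ⟨_, rfl⟩
  have hab : a * b = algebraMap V T ϖ := by rw [← ha, ← hb, ← map_mul, ι_X_mul, AlgHom.commutes]
  rw [ha, hb] at huv
  let η : P →ₐ[V] DualNumber T := aeval ![TrivSqZeroExt.inl a + TrivSqZeroExt.inr u,
    TrivSqZeroExt.inl b + TrivSqZeroExt.inr v]
  have hfst : (TrivSqZeroExt.fstHom V T T).comp η = φ.comp (ι h) := by
    refine MvPolynomial.algHom_ext fun i => ?_
    fin_cases i <;> simp only [η, AlgHom.comp_apply, aeval_X] <;> simp [TrivSqZeroExt.fstHom, ← ha, ← hb]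
  have hker : ∀ p ∈ Ideal.span {(X 0 * X 1 - C ϖ : P)}, η p = 0 := fun p hp => by
    obtain ⟨q, rfl⟩ := Ideal.mem_span_singleton'.1 hp
    rw [map_mul]
    refine mul_eq_zero_of_right _ (TrivSqZeroExt.ext ?_ ?_)
    · simp [η, TrivSqZeroExt.algebraMap_eq_inl', hab]
    · simp [η, DualNumber.snd_mul, TrivSqZeroExt.algebraMap_eq_inl']
      linear_combination huv
  let ηQ := Ideal.Quotient.liftₐ _ η hker
  have hunit : ∀ s : Submonoid.powers h, IsUnit (ηQ s) := by
    rintro ⟨_, n, rfl⟩
    rw [map_pow]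
    refine IsUnit.pow n (TrivSqZeroExt.isUnit_iff_isUnit_fst.2 ?_)
    obtain ⟨p, hp⟩ := Ideal.Quotient.mk_surjective h
    rw [show ηQ h = η p from (congrArg ηQ hp).symm, show (η p).fst = φ (ι h p) from AlgHom.congr_fun hfst p,
      show ι h p = algebraMap (Q ϖ) (Localization.Away h) h from congrArg (algebraMap (Q ϖ) (Localization.Away h)) hp]
    exact (IsLocalization.Away.algebraMap_isUnit _).map φ
  let ψ : Localization.Away h →ₐ[V] DualNumber T := IsLocalization.liftAlgHom hunit
  have hψ : ∀ p, ψ (ι h p) = η p := fun p => IsLocalization.lift_eq _ _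
  refine ⟨ψ, fun b => ?_, ?_, ?_⟩
  · refine DFunLike.congr_fun (f := (TrivSqZeroExt.fstHom V T T).comp ψ) (g := φ) ?_ b
    refine IsLocalization.algHom_ext (Submonoid.powers h) (AlgHom.ext fun q => ?_)
    obtain ⟨p, rfl⟩ := Ideal.Quotient.mk_surjective q
    show (ψ (ι h p)).fst = φ (ι h p)
    rw [hψ]; exact AlgHom.congr_fun hfst p
  · rw [hψ]; simp [η]
  · rw [hψ]; simp [η]

/-- Derivations with prescribed values on the coordinates. -/
theorem exists_der (h : Q ϖ) (T : Type u) [CommRing T] [Algebra V T] [Algebra (Localization.Away h) T]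
    [IsScalarTower V (Localization.Away h) T] (u v : T)
    (huv : u * algebraMap _ T (ι h (X 1)) + algebraMap _ T (ι h (X 0)) * v = 0) :
    ∃ (d : Derivation V (Localization.Away h) T) (ψ : Localization.Away h →ₐ[V] DualNumber T),
      d (ι h (X 0)) = u ∧ d (ι h (X 1)) = v ∧
      ∀ b, (ψ b).fst = algebraMap _ T b ∧ (ψ b).snd = d b := by
  obtain ⟨ψ, hf, hu, hv⟩ := exists_dual h (IsScalarTower.toAlgHom V (Localization.Away h) T) u v huv
  refine ⟨Derivation.mk' ((TrivSqZeroExt.sndHom T T).restrictScalars V ∘ₗ ψ.toLinearMap) fun a b => ?_, ψ, hu, hv,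
    fun b => ⟨hf b, rfl⟩⟩
  show (ψ (a * b)).snd = a • (ψ b).snd + b • (ψ a).snd
  rw [map_mul, DualNumber.snd_mul, hf, hf, Algebra.smul_def, Algebra.smul_def]
  exact congrArg _ (mul_comm _ _)

/-- A derivation is determined by the coordinates. -/
theorem der_ext {h : Q ϖ} {M : Type u} [AddCommGroup M] [Module V M] [Module (Localization.Away h) M]
    (D₁ D₂ : Derivation V (Localization.Away h) M) (hX : ∀ i, D₁ (ι h (X i)) = D₂ (ι h (X i))) : D₁ = D₂ := by
  have hp : ∀ p, D₁ (ι h p) = D₂ (ι h p) := fun p => by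
    induction p using MvPolynomial.induction_on with
    | C a => rw [show ι h (C a) = algebraMap V _ a from (ι h).commutes a, Derivation.map_algebraMap,
        Derivation.map_algebraMap]
    | add p q hp hq => rw [map_add, map_add, map_add, hp, hq]
    | mul_X p i hp => rw [map_mul, Derivation.leibniz, Derivation.leibniz, hp, hX]
  refine Derivation.ext fun b => ?_
  obtain ⟨⟨q, s⟩, hs⟩ := IsLocalization.surj (Submonoid.powers h) b
  obtain ⟨p, rfl⟩ := Ideal.Quotient.mk_surjective q
  obtain ⟨s', hs'⟩ := Ideal.Quotient.mk_surjective (s : Q ϖ)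
  have h1 : D₁ (b * ι h s') = D₂ (b * ι h s') := by
    rw [show b * ι h s' = ι h p from (congrArg (fun z => b * algebraMap _ _ z) hs').trans hs]
    exact hp p
  rw [Derivation.leibniz, Derivation.leibniz, hp, add_right_inj] at h1
  refine (IsUnit.smul_left_cancel ?_).1 h1
  show IsUnit (algebraMap (Q ϖ) _ (Ideal.Quotient.mk _ s'))
  rw [hs']
  exact IsLocalization.map_units _ s

section component

variable [IsDomain V] [IsDiscreteValuationRing V] {i j : Fin 2}

theorem gen_eq (hij : i ≠ j) : (X 0 * X 1 - C ϖ : P) = X i * X j - C ϖ := by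
  fin_cases i <;> fin_cases j <;> first | exact absurd rfl hij | simp [mul_comm]

/-- Setting the `i`-th variable to zero. -/
theorem sub_mem_span (hij : i ≠ j) (R : P) :
    R - aeval (Pi.single j (X j) : Fin 2 → P) R ∈ Ideal.span {(X i : P)} := by
  rw [← Ideal.Quotient.eq]
  refine AlgHom.congr_fun (φ₁ := Ideal.Quotient.mkₐ V (Ideal.span {(X i : P)}))
    (φ₂ := (Ideal.Quotient.mkₐ V _).comp (aeval (Pi.single j (X j) : Fin 2 → P))) ?_ R
  refine MvPolynomial.algHom_ext fun l => ?_
  rcases eq_or_ne l j with rfl | hl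
  · simp
  · obtain rfl : l = i := by omega
    simp [Pi.single_eq_of_ne hl, Ideal.Quotient.eq_zero_iff_mem.2 (Ideal.mem_span_singleton_self (X l : P))]

variable (hϖ : ϖ ≠ 0)

include hϖ in
theorem isRegular_mk (hij : i ≠ j) (a : Q ϖ)
    (ha : Ideal.Quotient.mk _ (X i) * a = 0) : a = 0 := by
  obtain ⟨A, rfl⟩ := Ideal.Quotient.mk_surjective a
  rw [← map_mul, Ideal.Quotient.eq_zero_iff_mem, Ideal.mem_span_singleton', gen_eq hij] at ha
  obtain ⟨R, hR⟩ := ha
  have h0 : aeval (Pi.single j (X j) : Fin 2 → P) R = 0 := by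
    have := congrArg (aeval (Pi.single j (X j) : Fin 2 → P)) hR
    simp [Pi.single_eq_of_ne hij] at this
    exact this.resolve_right hϖ
  obtain ⟨R', hR'⟩ := Ideal.mem_span_singleton'.1 (sub_mem_span hij R)
  rw [h0, sub_zero] at hR'
  rw [Ideal.Quotient.eq_zero_iff_mem, Ideal.mem_span_singleton']
  refine ⟨R', mul_left_cancel₀ (MvPolynomial.X_ne_zero i) ?_⟩
  rw [gen_eq hij, ← hR, ← hR']; ring

include hϖ in
theorem isRegular_ι (h : Q ϖ) (hij : i ≠ j) (b : Localization.Away h) (hb : ι h (X i) * b = 0) : b = 0 := by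
  obtain ⟨a, s, rfl⟩ := IsLocalization.exists_mk'_eq (Submonoid.powers h) b
  rw [show ι h (X i) = algebraMap (Q ϖ) _ (Ideal.Quotient.mk _ (X i)) from rfl, IsLocalization.mul_mk'_eq_mk'_of_mul,
    IsLocalization.mk'_eq_zero_iff] at hb
  obtain ⟨t, ht⟩ := hb
  rw [IsLocalization.mk'_eq_zero_iff]
  exact ⟨t, isRegular_mk hϖ hij _ (by rw [← ht]; ring)⟩

variable (ϖ) in
/-- The map of `Q` to the polynomial ring over the residue field: the `i`-th coordinate goes to zero. -/
theorem exists_toPoly (hij : i ≠ j) (hπ : Irreducible ϖ) :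
    ∃ σ : (Q ϖ) →ₐ[V] Polynomial (IsLocalRing.ResidueField V),
      σ (Ideal.Quotient.mk _ (X i)) = 0 ∧ σ (Ideal.Quotient.mk _ (X j)) = Polynomial.X ∧
      Function.Surjective σ ∧ ∀ a, σ a = 0 → a ∈ Ideal.span {Ideal.Quotient.mk _ (X i)} := by
  let η : P →ₐ[V] Polynomial (IsLocalRing.ResidueField V) := aeval (Pi.single j Polynomial.X)
  have h0 : algebraMap V (IsLocalRing.ResidueField V) ϖ = 0 :=
    (IsLocalRing.residue_eq_zero_iff ϖ).2 (hπ.maximalIdeal_eq ▸ Ideal.mem_span_singleton_self ϖ)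
  have hker : ∀ p ∈ Ideal.span {(X 0 * X 1 - C ϖ : P)}, η p = 0 := fun p hp => by
    rw [gen_eq hij] at hp
    obtain ⟨q, rfl⟩ := Ideal.mem_span_singleton'.1 hp
    rw [map_mul]
    refine mul_eq_zero_of_right _ ?_
    simp [η, Pi.single_eq_of_ne hij, IsScalarTower.algebraMap_apply V (IsLocalRing.ResidueField V)
      (Polynomial (IsLocalRing.ResidueField V)), h0, hπ.not_isUnit]
  refine ⟨Ideal.Quotient.liftₐ _ η hker, ?_, ?_, ?_, ?_⟩
  · show η (X i) = 0; simp [η, Pi.single_eq_of_ne hij]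
  · show η (X j) = _; simp [η]
  · intro p
    obtain ⟨q, rfl⟩ := Polynomial.map_surjective _ IsLocalRing.residue_surjective p
    refine ⟨Ideal.Quotient.mk _ (Polynomial.aeval (X j : P) q), ?_⟩
    show η _ = _
    rw [← Polynomial.aeval_algHom_apply, show η (X j) = Polynomial.X by simp [η], Polynomial.aeval_X_left_eq_map]
    rfl
  · intro a ha
    obtain ⟨A, rfl⟩ := Ideal.Quotient.mk_surjective a
    change η A = 0 at ha
    let τ : P →ₐ[V] Polynomial V := aeval (Pi.single j Polynomial.X)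
    have hτ : ((Polynomial.mapAlgHom (Algebra.ofId V (IsLocalRing.ResidueField V))).comp τ) = η := by
      refine MvPolynomial.algHom_ext fun l => ?_
      rcases eq_or_ne l j with rfl | hl <;> simp [τ, η, *]
    have hj : aeval (Pi.single j (X j) : Fin 2 → P) A = Polynomial.aeval (X j : P) (τ A) := by
      refine AlgHom.congr_fun (φ₁ := aeval (Pi.single j (X j) : Fin 2 → P))
        (φ₂ := (Polynomial.aeval (X j : P)).comp τ) ?_ A
      refine MvPolynomial.algHom_ext fun l => ?_
      rcases eq_or_ne l j with rfl | hl <;> simp [τ, *]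
    obtain ⟨t, ht⟩ : Polynomial.C ϖ ∣ τ A := by
      rw [Polynomial.C_dvd_iff_dvd_coeff]
      intro n
      rw [← Ideal.mem_span_singleton, ← hπ.maximalIdeal_eq, ← IsLocalRing.residue_eq_zero_iff]
      have := congrArg (fun p => Polynomial.coeff p n) ((AlgHom.congr_fun hτ A).trans ha)
      simpa using this
    obtain ⟨R, hR⟩ := Ideal.mem_span_singleton'.1 (sub_mem_span hij A)
    rw [hj, ht, map_mul, Polynomial.aeval_C, algebraMap_eq] at hR
    rw [show A = R * X i + C ϖ * Polynomial.aeval (X j : P) t by rw [hR]; ring, map_add, map_mul]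
    refine add_mem (Ideal.mul_mem_left _ _ (Ideal.mem_span_singleton_self _)) ?_
    rw [map_mul]
    refine Ideal.mul_mem_right _ _ ?_
    have hgen : Ideal.Quotient.mk (Ideal.span {(X 0 * X 1 - C ϖ : P)}) (C ϖ) =
        Ideal.Quotient.mk _ (X i) * Ideal.Quotient.mk _ (X j) := by
      rw [← map_mul, eq_comm, Ideal.Quotient.eq, gen_eq hij]
      exact Ideal.subset_span rfl
    rw [hgen]
    exact Ideal.mul_mem_right _ _ (Ideal.mem_span_singleton_self _)

end component

end Groth.Agent.H1Node
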