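import Groth.Agent.S4433
import Groth.Agent.S0549
import Groth.Agent.PSLib.Basic
import Groth.Agent.NodeLib.Completion
import Groth.Agent.SpinNodeLib.Power

/-!
# `D[[x, y]]/(xy - d)` is a domain for a complete Noetherian local domain `D` and `d ≠ 0` in `𝔪`
-/

set_option autoImplicit false

universe u

namespace Groth.Agent.H1Node

open IsLocalRing

/-- A DVR dominating `D` in which `d` has valuation at least two. -/
theorem exists_dvr_sq (D : Type u) [CommRing D] [IsDomain D] [IsNoetherianRing D] [IsLocalRing D]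
    (d : D) (hd : d ∈ maximalIdeal D) (hd0 : d ≠ 0) :
    ∃ (V : Type u) (_ : CommRing V) (_ : IsDomain V) (_ : IsDiscreteValuationRing V) (f : D →+* V),
      Function.Injective f ∧ (∀ a ∈ maximalIdeal D, f a ∈ maximalIdeal V) ∧ f d ∈ maximalIdeal V ^ 2 := by
  classical
  have hnf : ¬ IsField D := fun h => hd0 (by
    have := (isField_iff_maximalIdeal_eq.1 h)
    rwa [this, Ideal.mem_bot] at hd)
  let K := FractionRing D
  let Ω := AlgebraicClosure K
  obtain ⟨α, hα⟩ := IsAlgClosed.exists_pow_nat_eq (algebraMap K Ω (algebraMap D K d)) two_pos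
  let L := IntermediateField.adjoin K ({α} : Set Ω)
  have hfgL : (⊤ : IntermediateField K L).FG :=
    haveI := IntermediateField.adjoin.finiteDimensional (Algebra.IsIntegral.isIntegral (R := K) α); IntermediateField.fg_of_noetherian ⊤
  letI : Algebra D L := ((algebraMap K L).comp (algebraMap D K)).toAlgebra
  haveI : IsScalarTower D K L := IsScalarTower.of_algebraMap_eq fun _ => rfl
  obtain ⟨V, hV, hmem, hval⟩ := Groth.Agent.S4433.result D hnf K L hfgL
  let a : L := ⟨α, IntermediateField.subset_adjoin K _ rfl⟩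
  have ha : a ^ 2 = algebraMap D L d := Subtype.ext hα
  have hav : V.valuation a < 1 := by
    have h := hval d hd
    rw [← ha, map_pow] at h
    by_contra hc
    exact absurd h (not_lt.2 (one_le_pow₀ (not_lt.1 hc)))
  let a' : V := ⟨a, (V.valuation_le_one_iff a).1 hav.le⟩
  have ha' : a' ∈ maximalIdeal V := (V.valuation_lt_one_iff a').2 hav
  let f : D →+* V := (algebraMap D L).codRestrict V.toSubring hmem
  refine ⟨V, inferInstance, inferInstance, hV, f, fun x y h => ?_, fun x hx => (V.valuation_lt_one_iff _).mpr (hval x hx), ?_⟩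
  · exact (IsFractionRing.injective D K) ((algebraMap K L).injective (congrArg Subtype.val h))
  · have : f d = a' ^ 2 := Subtype.ext ha.symm
    rw [this]
    exact Ideal.pow_mem_pow ha' 2

open MvPowerSeries in
/-- `D[[x, y]]/(xy - d)` is a domain. -/
theorem isDomain_node (D : Type u) [CommRing D] [IsDomain D] [IsNoetherianRing D] [IsLocalRing D]
    [IsAdicComplete (maximalIdeal D) D] (d : D) (hd : d ∈ maximalIdeal D) (hd0 : d ≠ 0) :
    IsDomain (MvPowerSeries (Fin 2) D ⧸ Ideal.span {(X 0 * X 1 - C d : MvPowerSeries (Fin 2) D)}) := by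
  classical
  obtain ⟨V, _, _, _, f, hfinj, hfloc, hfd⟩ := exists_dvr_sq D d hd hd0
  obtain ⟨t, ht⟩ := IsDiscreteValuationRing.exists_irreducible V
  have hmax : maximalIdeal V = Ideal.span {t} := ht.maximalIdeal_eq
  obtain ⟨e, he, hemem⟩ : ∃ e : V, f d = t * e ∧ e ∈ maximalIdeal V := by
    rw [hmax, Ideal.span_singleton_pow, Ideal.mem_span_singleton'] at hfd
    obtain ⟨c, hc⟩ := hfd
    exact ⟨c * t, by rw [← hc]; ring, by rw [hmax]; exact Ideal.mul_mem_left _ _ (Ideal.mem_span_singleton_self t)⟩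
  let pt : PowerSeries V := PowerSeries.C t
  have hker : Ideal.span {pt} = RingHom.ker (PowerSeries.map (IsLocalRing.residue V)) := by
    ext g
    rw [RingHom.mem_ker, Ideal.mem_span_singleton']
    constructor
    · rintro ⟨c, rfl⟩
      have h0 : IsLocalRing.residue V t = 0 := (residue_eq_zero_iff _).2 (by rw [hmax]; exact Ideal.mem_span_singleton_self t)
      simp [pt, h0]
    · intro hg
      have : ∀ n, ∃ c, c * t = PowerSeries.coeff n g := fun n => Ideal.mem_span_singleton'.1 (by
        rw [← hmax, ← residue_eq_zero_iff, ← PowerSeries.coeff_map, hg, map_zero])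
      choose c hc using this
      exact ⟨PowerSeries.mk c, PowerSeries.ext fun n => by
        rw [PowerSeries.coeff_mul_C, PowerSeries.coeff_mk, hc]⟩
  haveI hq : (Ideal.span {pt}).IsPrime := hker ▸ RingHom.ker_isPrime _
  have hpt0 : pt ≠ 0 := fun h => ht.ne_zero (by
    simpa [pt] using congrArg PowerSeries.constantCoeff h)
  have hprime : Prime pt := (Ideal.span_singleton_prime hpt0).1 hq
  let W := Localization.AtPrime (Ideal.span {pt})
  have hWmax : maximalIdeal W = Ideal.span {algebraMap (PowerSeries V) W pt} := by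
    rw [← Localization.AtPrime.map_eq_maximalIdeal, Ideal.map_span, Set.image_singleton]
  have hWinj : Function.Injective (algebraMap (PowerSeries V) W) :=
    IsLocalization.injective W (Ideal.primeCompl_le_nonZeroDivisors (Ideal.span {pt}))
  haveI : IsDomain W := IsLocalization.isDomain_localization (Ideal.primeCompl_le_nonZeroDivisors (Ideal.span {pt}))
  haveI : IsNoetherianRing W := IsLocalization.isNoetherianRing (Ideal.span {pt}).primeCompl W inferInstance
  haveI : IsDiscreteValuationRing W := by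
    have hnf : ¬ IsField W := fun h => hpt0 (hWinj (by
      rw [map_zero]
      have := isField_iff_maximalIdeal_eq.1 h
      rwa [hWmax, Ideal.span_singleton_eq_bot] at this))
    exact ((IsDiscreteValuationRing.TFAE W hnf).out 0 4).mpr (⟨⟨_, hWmax⟩⟩ : (maximalIdeal W).IsPrincipal)
  let Cc := AdicCompletion (maximalIdeal W) W
  obtain ⟨hdom, hdvr⟩ := (Groth.Agent.S0549.result W).1 ⟨inferInstance, inferInstance⟩
  haveI : IsDomain Cc := hdom
  let J : Ideal Cc := (maximalIdeal W).map (algebraMap W Cc)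
  haveI : IsAdicComplete J Cc := Adic7.isAdicComplete_completion _ (IsNoetherian.noetherian _)
  have hJ : ∀ (n : ℕ) (w : W), algebraMap W Cc w ∈ J ^ n → w ∈ maximalIdeal W ^ n := by
    intro n w hw
    have hle : J ^ n ≤ RingHom.ker (AdicCompletion.evalₐ (maximalIdeal W) n).toRingHom := by
      rw [← Ideal.map_pow, Ideal.map_le_iff_le_comap]
      intro x hx
      rw [Ideal.mem_comap, RingHom.mem_ker, AlgHom.toRingHom_eq_coe, RingHom.coe_coe, AlgHom.commutes]
      exact Ideal.Quotient.eq_zero_iff_mem.2 hx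
    have h := hle hw
    rw [RingHom.mem_ker, AlgHom.toRingHom_eq_coe, RingHom.coe_coe, AlgHom.commutes] at h
    exact Ideal.Quotient.eq_zero_iff_mem.1 h
  let g : PowerSeries V →+* Cc := (algebraMap W Cc).comp (algebraMap (PowerSeries V) W)
  have hs : IsUnit (algebraMap (PowerSeries V) W PowerSeries.X) := by
    refine IsLocalization.map_units W (⟨PowerSeries.X, fun h => ?_⟩ : (Ideal.span {pt}).primeCompl)
    rw [hker] at h
    have h' : PowerSeries.map (IsLocalRing.residue V) PowerSeries.X = 0 := h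
    rw [PowerSeries.map_X] at h'
    exact PowerSeries.X_ne_zero h'
  obtain ⟨su, hsu⟩ := hs
  letI : Algebra D Cc := (g.comp ((PowerSeries.C (R := V)).comp f)).toAlgebra
  have halg : ∀ c : D, algebraMap D Cc c = g (PowerSeries.C (f c)) := fun c => rfl
  let a : Cc := g (PowerSeries.C t * PowerSeries.X)
  let b : Cc := g (PowerSeries.C e) * algebraMap W Cc (↑su⁻¹ : W)
  have hab : a * b = algebraMap D Cc d := by
    have hX : g PowerSeries.X * algebraMap W Cc (↑su⁻¹ : W) = 1 := by
      show algebraMap W Cc (algebraMap (PowerSeries V) W PowerSeries.X) * _ = 1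
      rw [← hsu, ← map_mul, Units.mul_inv, map_one]
    rw [halg, he]
    simp only [a, b, map_mul]
    linear_combination (g (PowerSeries.C t) * g (PowerSeries.C e)) * hX
  have hCmem : ∀ v ∈ maximalIdeal V, g (PowerSeries.C v) ∈ J := fun v hv => by
    rw [hmax, Ideal.mem_span_singleton'] at hv
    obtain ⟨c, rfl⟩ := hv
    rw [map_mul, map_mul]
    exact Ideal.mul_mem_left _ _ (Ideal.mem_map_of_mem _ (hWmax ▸ Ideal.mem_span_singleton_self _))
  have haJ : a ∈ J := by
    simp only [a, map_mul]
    exact Ideal.mul_mem_right _ _ (hCmem t (hmax ▸ Ideal.mem_span_singleton_self t))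
  have hbJ : b ∈ J := Ideal.mul_mem_right _ _ (hCmem e hemem)
  obtain ⟨ψ, hψ⟩ := PSLib.exists_algHom (R := D) J ![a, b] (by intro i; fin_cases i <;> simp [haJ, hbJ])
  have hψ0 : ψ (X 0) = a := hψ 0
  have hψ1 : ψ (X 1) = b := hψ 1
  -- the kernel
  suffices hk : Ideal.span {(X 0 * X 1 - C d : MvPowerSeries (Fin 2) D)} = RingHom.ker ψ.toRingHom by
    rw [hk]
    exact (Ideal.Quotient.isDomain_iff_prime _).2 (RingHom.ker_isPrime _)
  refine le_antisymm (Ideal.span_le.2 (Set.singleton_subset_iff.2 ?_)) fun F hF => ?_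
  · rw [SetLike.mem_coe, RingHom.mem_ker, AlgHom.toRingHom_eq_coe, RingHom.coe_coe, map_sub, map_mul, hψ0, hψ1,
      MvPowerSeries.c_eq_algebraMap, AlgHom.commutes, hab, sub_self]
  refine SpinNodeLib.mem_of_coordMv_eq_zero (I := maximalIdeal D) hd F (funext fun z => ?_)
  show SpinNodeLib.piSum hd (SpinNodeLib.diag F z) = 0
  set p := z.toNat with hp
  set q := (-z).toNat with hq'
  set L := SpinNodeLib.piSum hd (SpinNodeLib.diag F z) with hL
  suffices h : f (d ^ q * L) = 0 by
    have h' := hfinj (h.trans (map_zero f).symm)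
    exact (mul_eq_zero.1 h').resolve_left (pow_ne_zero _ hd0)
  refine sub_eq_zero.1 ?_
  rw [sub_zero, ← Ideal.mem_bot, ← Ideal.iInf_pow_eq_bot_of_isDomain (maximalIdeal V) (maximalIdeal.isMaximal V).ne_top,
    Ideal.mem_iInf]
  intro n
  let N := p + q + 2 * n
  let P : MvPolynomial (Fin 2) D := MvPowerSeries.truncTotal N F
  have hFP : F - (P : MvPowerSeries (Fin 2) D) ∈ PSLib.vars 2 D ^ N := PSLib.mem_pow_iff.2 fun s hs => by
    rw [map_sub, MvPolynomial.coeff_coe, MvPowerSeries.coeff_truncTotal _ hs, sub_self]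
  have hψP : MvPolynomial.aeval ![a, b] P ∈ J ^ N := by
    have h1 : ψ (F - P) ∈ J ^ N := PSLib.map_pow_le ψ (I := J) (fun i => by
      fin_cases i <;> simp [hψ0, hψ1, haJ, hbJ]) N (Ideal.mem_map_of_mem _ hFP)
    have h2 : ψ (P : MvPowerSeries (Fin 2) D) = MvPolynomial.aeval ![a, b] P := by
      have : (ψ.comp (MvPolynomial.coeToMvPowerSeries.algHom D)) = MvPolynomial.aeval ![a, b] := by
        refine MvPolynomial.algHom_ext fun i => ?_
        fin_cases i <;> simp [MvPolynomial.coeToMvPowerSeries.algHom_apply, hψ0, hψ1]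
      rw [← this]
      simp [MvPolynomial.coeToMvPowerSeries.algHom_apply]
    have hF0 : ψ F = 0 := hF
    rw [map_sub, hF0, zero_sub, neg_mem_iff, h2] at h1
    exact h1
  let term : (Fin 2 →₀ ℕ) → PowerSeries V := fun s =>
    PowerSeries.C (f (MvPolynomial.coeff s P * d ^ s 1) * t ^ (N + s 0 - s 1)) * PowerSeries.X ^ (N + s 0 - s 1)
  have hsupp : ∀ s ∈ P.support, s 0 + s 1 < N := fun s hs => by
    by_contra hc
    refine MvPolynomial.mem_support_iff.1 hs ?_
    rw [MvPowerSeries.coeff_truncTotal_eq_ite, if_neg]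
    rw [Finsupp.degree_eq_sum, Fin.sum_univ_two]
    exact hc
  have hG : g (∑ s ∈ P.support, term s) = a ^ N * MvPolynomial.aeval ![a, b] P := by
    conv_rhs => rw [MvPolynomial.aeval_def, MvPolynomial.eval₂_eq', Finset.mul_sum]
    rw [map_sum]
    refine Finset.sum_congr rfl fun s hs => ?_
    have hlt := hsupp s hs
    obtain ⟨M, hM⟩ : ∃ M, N + s 0 = s 1 + M := ⟨N + s 0 - s 1, by omega⟩
    simp only [Fin.prod_univ_two, Matrix.cons_val_zero, Matrix.cons_val_one, term]
    rw [hM, Nat.add_sub_cancel_left]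
    calc g (PowerSeries.C (f (MvPolynomial.coeff s P * d ^ s 1) * t ^ M) * PowerSeries.X ^ M)
        = algebraMap D Cc (MvPolynomial.coeff s P) * (algebraMap D Cc d) ^ s 1 * a ^ M := by
          simp only [halg, a, map_mul, map_pow]; ring
      _ = algebraMap D Cc (MvPolynomial.coeff s P) * (a * b) ^ s 1 * a ^ M := by rw [hab]
      _ = a ^ N * (algebraMap D Cc (MvPolynomial.coeff s P) * (a ^ s 0 * b ^ s 1)) := by
          have : a ^ N * a ^ s 0 = a ^ s 1 * a ^ M := by rw [← pow_add, ← pow_add, hM]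
          linear_combination -(algebraMap D Cc (MvPolynomial.coeff s P) * b ^ s 1) * this
  have hGmem : pt ^ (N + N) ∣ ∑ s ∈ P.support, term s := by
    have h1 : g (∑ s ∈ P.support, term s) ∈ J ^ (N + N) := by
      rw [hG, pow_add]
      exact Ideal.mul_mem_mul (Ideal.pow_mem_pow haJ N) hψP
    have h2 := hJ _ _ h1
    rw [← Localization.AtPrime.map_eq_maximalIdeal, ← Ideal.map_pow,
      IsLocalization.algebraMap_mem_map_algebraMap_iff (Ideal.span {pt}).primeCompl] at h2
    obtain ⟨m, hm, hm2⟩ := h2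
    rw [Ideal.span_singleton_pow, Ideal.mem_span_singleton] at hm2
    exact hprime.pow_dvd_of_dvd_mul_left _ (fun h => hm (Ideal.mem_span_singleton.2 h)) hm2
  obtain ⟨H, hH⟩ := hGmem
  obtain ⟨M, hM⟩ : ∃ M, M + q = N + p := ⟨N + p - q, by omega⟩
  have hc := congrArg (PowerSeries.coeff M) hH
  rw [← map_pow, PowerSeries.coeff_C_mul, map_sum] at hc
  let S : Finset (Fin 2 →₀ ℕ) := (Finset.range n).image (fun k => SpinNodeLib.ex (p + k) (q + k))
  have hval : ∀ s ∈ P.support ∪ S, PowerSeries.coeff M (term s) =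
      if s ∈ S then f (MvPolynomial.coeff s P * d ^ s 1) * t ^ M else 0 := by
    intro s hs
    have hlt : s 0 + s 1 < N := by
      rcases Finset.mem_union.1 hs with h | h
      · exact hsupp s h
      · obtain ⟨k, hk, rfl⟩ := Finset.mem_image.1 h
        have := Finset.mem_range.1 hk
        simp only [SpinNodeLib.ex_zero, SpinNodeLib.ex_one, N]
        omega
    simp only [term, PowerSeries.coeff_C_mul, PowerSeries.coeff_X_pow]
    by_cases h : s ∈ S
    · obtain ⟨k, hk, rfl⟩ := Finset.mem_image.1 h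
      have := Finset.mem_range.1 hk
      simp only [SpinNodeLib.ex_zero, SpinNodeLib.ex_one]
      have e1 : M = N + (p + k) - (q + k) := by omega
      rw [if_pos h, if_pos e1, mul_one, ← e1]
    · rw [if_neg h, if_neg, mul_zero]
      intro hM'
      apply h
      refine Finset.mem_image.2 ⟨s 0 - p, ?_, SpinNodeLib.ext_ex ?_ ?_⟩ <;>
        simp only [Finset.mem_range, SpinNodeLib.ex_zero, SpinNodeLib.ex_one, N] at * <;> omega
  rw [Finset.sum_subset Finset.subset_union_left (fun s _ hs => by
        simp only [term, MvPolynomial.notMem_support_iff.1 hs, zero_mul, map_zero]),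
    Finset.sum_congr rfl hval, Finset.sum_ite_mem, Finset.union_inter_cancel_right, Finset.sum_image (fun k _ l _ h => by
      have := congrArg (fun s : Fin 2 →₀ ℕ => s 0) h
      simpa using this)] at hc
  have hcoef : ∀ k ∈ Finset.range n, MvPolynomial.coeff (SpinNodeLib.ex (p + k) (q + k)) P = SpinNodeLib.diag F z k := by
    intro k hk
    rw [MvPowerSeries.coeff_truncTotal]
    · rfl
    · rw [Finsupp.degree_eq_sum, Fin.sum_univ_two]
      have := Finset.mem_range.1 hk
      simp only [SpinNodeLib.ex_zero, SpinNodeLib.ex_one, N]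
      omega
  have hsum : ∑ k ∈ Finset.range n, f (MvPolynomial.coeff (SpinNodeLib.ex (p + k) (q + k)) P *
      d ^ SpinNodeLib.ex (p + k) (q + k) 1) * t ^ M =
      t ^ M * f (d ^ q * ∑ k ∈ Finset.range n, d ^ k * SpinNodeLib.diag F z k) := by
    rw [Finset.mul_sum, map_sum, Finset.mul_sum]
    refine Finset.sum_congr rfl fun k hk => ?_
    rw [hcoef k hk, SpinNodeLib.ex_one, pow_add]
    simp only [map_mul, map_pow]
    ring
  rw [hsum] at hc
  obtain ⟨l, hl⟩ : ∃ l, N + N = M + (n + l) := ⟨N + N - M - n, by omega⟩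
  rw [hl, pow_add, mul_assoc] at hc
  have hc' := mul_left_cancel₀ (pow_ne_zero _ ht.ne_zero) hc
  have h1 : f (d ^ q * ∑ k ∈ Finset.range n, d ^ k * SpinNodeLib.diag F z k) ∈ maximalIdeal V ^ n := by
    rw [hc', hmax, Ideal.span_singleton_pow, pow_add, mul_assoc]
    exact Ideal.mul_mem_right _ _ (Ideal.mem_span_singleton_self _)
  have h2 : f (d ^ q * (L - ∑ k ∈ Finset.range n, d ^ k * SpinNodeLib.diag F z k)) ∈ maximalIdeal V ^ n := by
    rw [map_mul]
    refine Ideal.mul_mem_left _ _ (?_ : _ ∈ _)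
    have h : (maximalIdeal D).map f ≤ maximalIdeal V := Ideal.map_le_iff_le_comap.2 fun x hx => hfloc x hx
    exact ((Ideal.map_pow f (maximalIdeal D) n).le.trans (Ideal.pow_right_mono h n))
      (Ideal.mem_map_of_mem f (SpinNodeLib.piSum_spec hd (SpinNodeLib.diag F z) n))
  have h3 := add_mem h1 h2
  rwa [← map_add, ← mul_add, add_sub_cancel] at h3

end Groth.Agent.H1Node
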