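import Groth.Agent.H1Node.Domain
import Groth.Agent.CILib.Basic
import Mathlib.RingTheory.Ideal.KrullsHeightTheorem

/-!
# Prime ideals over a prime element in `R[[x, y]]/(xy - r)`
-/

set_option autoImplicit false

universe u

namespace Groth.Agent.H1Node

open IsLocalRing MvPowerSeries

variable {R : Type u} [CommRing R]

theorem map_surjective {σ : Type*} {D : Type u} [CommRing D] (f : R →+* D) (hf : Function.Surjective f) :
    Function.Surjective (MvPowerSeries.map f : MvPowerSeries σ R →+* MvPowerSeries σ D) := by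
  intro G
  choose g hg using fun s : σ →₀ ℕ => hf (MvPowerSeries.coeff s G)
  refine ⟨(fun s => g s : MvPowerSeries σ R), MvPowerSeries.ext fun s => ?_⟩
  rw [MvPowerSeries.coeff_map, MvPowerSeries.coeff_apply]
  exact hg s

theorem exists_eq_C_mul {σ : Type*} {π : R} (F : MvPowerSeries σ R)
    (hF : MvPowerSeries.map (Ideal.Quotient.mk (Ideal.span {π})) F = 0) : ∃ H, F = C π * H := by
  have : ∀ s, ∃ h, h * π = MvPowerSeries.coeff s F := fun s => Ideal.mem_span_singleton'.1
    (Ideal.Quotient.eq_zero_iff_mem.1 (by rw [← MvPowerSeries.coeff_map, hF, map_zero]))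
  choose h hh using this
  refine ⟨(fun s => h s : MvPowerSeries σ R), MvPowerSeries.ext fun s => ?_⟩
  rw [MvPowerSeries.coeff_C_mul]
  exact (hh s).symm.trans (mul_comm _ _)

/-- If `π` is a prime not dividing `r`, then `π` generates a prime ideal of `R[[x, y]]/(xy - r)`. -/
theorem isPrime_span_C [IsLocalRing R] [IsNoetherianRing R] [IsAdicComplete (maximalIdeal R) R]
    {π r : R} (hπ : Prime π) (hr : r ∈ maximalIdeal R) (hπr : ¬ π ∣ r) :
    (Ideal.span {Ideal.Quotient.mk (Ideal.span {(X 0 * X 1 - C r : MvPowerSeries (Fin 2) R)}) (C π)}).IsPrime := by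
  haveI : (Ideal.span {π}).IsPrime := (Ideal.span_singleton_prime hπ.ne_zero).2 hπ
  let D := R ⧸ Ideal.span {π}
  haveI : IsLocalRing D := IsLocalRing.of_surjective' (Ideal.Quotient.mk _) Ideal.Quotient.mk_surjective
  haveI : IsAdicComplete (maximalIdeal D) D := CILib.isAdicComplete_quotient (Ideal.span {π})
  have hrD : (Ideal.Quotient.mk _ r : D) ∈ maximalIdeal D := by
    rw [← map_maximalIdeal_of_surjective (Ideal.Quotient.mk (Ideal.span {π})) Ideal.Quotient.mk_surjective]
    exact Ideal.mem_map_of_mem _ hr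
  have hr0 : (Ideal.Quotient.mk _ r : D) ≠ 0 := fun h => hπr (Ideal.mem_span_singleton.1 (Ideal.Quotient.eq_zero_iff_mem.1 h))
  haveI := isDomain_node D _ hrD hr0
  let m : MvPowerSeries (Fin 2) R →+* MvPowerSeries (Fin 2) D := MvPowerSeries.map (Ideal.Quotient.mk _)
  have hrel : m (X 0 * X 1 - C r) = X 0 * X 1 - C (Ideal.Quotient.mk _ r) := by simp [m]
  let Φ := Ideal.quotientMap (Ideal.span {(X 0 * X 1 - C (Ideal.Quotient.mk _ r) : MvPowerSeries (Fin 2) D)}) m
    (show Ideal.span {(X 0 * X 1 - C r : MvPowerSeries (Fin 2) R)} ≤ _ from Ideal.span_le.2 (Set.singleton_subset_iff.2 (by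
      rw [SetLike.mem_coe, Ideal.mem_comap, hrel]; exact Ideal.mem_span_singleton_self _)))
  suffices h : Ideal.span {Ideal.Quotient.mk (Ideal.span {(X 0 * X 1 - C r : MvPowerSeries (Fin 2) R)}) (C π)} =
      RingHom.ker Φ by rw [h]; exact RingHom.ker_isPrime Φ
  refine le_antisymm (Ideal.span_le.2 (Set.singleton_subset_iff.2 ?_)) fun a ha => ?_
  · have h0 : (Ideal.Quotient.mk (Ideal.span {π}) π : D) = 0 := Ideal.Quotient.eq_zero_iff_mem.2 (Ideal.mem_span_singleton_self π)
    rw [SetLike.mem_coe, RingHom.mem_ker, Ideal.quotientMap_mk, MvPowerSeries.map_C, h0, map_zero, map_zero]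
  · obtain ⟨F, rfl⟩ := Ideal.Quotient.mk_surjective a
    rw [RingHom.mem_ker, Ideal.quotientMap_mk, Ideal.Quotient.eq_zero_iff_mem, Ideal.mem_span_singleton'] at ha
    obtain ⟨G', hG'⟩ := ha
    obtain ⟨G, rfl⟩ := map_surjective (Ideal.Quotient.mk (Ideal.span {π})) Ideal.Quotient.mk_surjective G'
    obtain ⟨H, hH⟩ := exists_eq_C_mul (π := π) (F - G * (X 0 * X 1 - C r)) (by
      show m _ = 0
      rw [map_sub, map_mul, hrel, hG', sub_self])
    rw [Ideal.mem_span_singleton']
    refine ⟨Ideal.Quotient.mk _ H, ?_⟩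
    rw [← map_mul, Ideal.Quotient.eq, show H * C π - F = -(G * (X 0 * X 1 - C r)) by linear_combination -hH, neg_mem_iff]
    exact Ideal.mul_mem_left _ _ (Ideal.mem_span_singleton_self _)

/-- If the prime `π` divides `r`, then `(π, x)` is prime in `R[[x, y]]/(xy - r)` and misses `y`. -/
theorem isPrime_span_C_X {π r : R} (hπ : Prime π) (hπr : π ∣ r) {i j : Fin 2} (hij : i ≠ j) :
    (Ideal.span {Ideal.Quotient.mk (Ideal.span {(X 0 * X 1 - C r : MvPowerSeries (Fin 2) R)}) (C π),
      Ideal.Quotient.mk _ (X i)}).IsPrime ∧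
    Ideal.Quotient.mk (Ideal.span {(X 0 * X 1 - C r : MvPowerSeries (Fin 2) R)}) (X j) ∉
      Ideal.span {Ideal.Quotient.mk (Ideal.span {(X 0 * X 1 - C r : MvPowerSeries (Fin 2) R)}) (C π),
        Ideal.Quotient.mk _ (X i)} := by
  haveI : (Ideal.span {π}).IsPrime := (Ideal.span_singleton_prime hπ.ne_zero).2 hπ
  let D := R ⧸ Ideal.span {π}
  haveI : IsDomain D := Ideal.Quotient.isDomain _
  haveI : IsDomain (MvPowerSeries (Fin 1) D) := NoZeroDivisors.to_isDomain _
  let e : Fin 1 ↪ Fin 2 := ⟨fun _ => j, fun a b _ => Subsingleton.elim a b⟩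
  let m : MvPowerSeries (Fin 2) R →+* MvPowerSeries (Fin 1) D :=
    (MvPowerSeries.killCompl (R := D) e).toRingHom.comp (MvPowerSeries.map (Ideal.Quotient.mk _))
  have hXi : m (X i) = 0 := by
    show MvPowerSeries.killCompl (R := D) e (MvPowerSeries.map (Ideal.Quotient.mk (Ideal.span {π})) (X i)) = 0
    rw [MvPowerSeries.map_X, MvPowerSeries.killCompl_X_eq_zero]
    rintro ⟨_, h⟩
    exact hij h.symm
  have hXj : m (X j) = X 0 := by
    show MvPowerSeries.killCompl (R := D) e (MvPowerSeries.map (Ideal.Quotient.mk (Ideal.span {π})) (X (e 0))) = X 0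
    rw [MvPowerSeries.map_X, MvPowerSeries.killCompl_X]
  have hC : ∀ c, m (C c) = C (Ideal.Quotient.mk _ c) := fun c => by
    show MvPowerSeries.killCompl (R := D) e (MvPowerSeries.map (Ideal.Quotient.mk (Ideal.span {π})) (C c)) = _
    rw [MvPowerSeries.map_C, MvPowerSeries.killCompl_C]
  have hxy : (X 0 * X 1 : MvPowerSeries (Fin 2) R) = X i * X j := by
    fin_cases i <;> fin_cases j <;> simp_all [mul_comm]
  have hrel : m (X 0 * X 1 - C r) = 0 := by
    have h0 : (Ideal.Quotient.mk (Ideal.span {π}) r : D) = 0 := Ideal.Quotient.eq_zero_iff_mem.2 (Ideal.mem_span_singleton.2 hπr)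
    rw [hxy, map_sub, map_mul, hXi, hC, h0, map_zero, zero_mul, sub_zero]
  let Φ := Ideal.Quotient.lift (Ideal.span {(X 0 * X 1 - C r : MvPowerSeries (Fin 2) R)}) m (fun a ha => by
    obtain ⟨c, rfl⟩ := Ideal.mem_span_singleton'.1 ha
    rw [map_mul, hrel]
    exact mul_zero _)
  have hker : Ideal.span {Ideal.Quotient.mk (Ideal.span {(X 0 * X 1 - C r : MvPowerSeries (Fin 2) R)}) (C π),
      Ideal.Quotient.mk _ (X i)} = RingHom.ker Φ := by
    refine le_antisymm (Ideal.span_le.2 ?_) fun a ha => ?_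
    · rintro _ (rfl | rfl)
      · have h0 : (Ideal.Quotient.mk (Ideal.span {π}) π : D) = 0 := Ideal.Quotient.eq_zero_iff_mem.2 (Ideal.mem_span_singleton_self π)
        rw [SetLike.mem_coe, RingHom.mem_ker, Ideal.Quotient.lift_mk, hC, h0, map_zero]
      · rw [SetLike.mem_coe, RingHom.mem_ker, Ideal.Quotient.lift_mk, hXi]
    · obtain ⟨F, rfl⟩ := Ideal.Quotient.mk_surjective a
      rw [RingHom.mem_ker, Ideal.Quotient.lift_mk] at ha
      have hdvd : (X i : MvPowerSeries (Fin 2) D) ∣ MvPowerSeries.map (Ideal.Quotient.mk _) F := by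
        rw [MvPowerSeries.X_dvd_iff]
        intro s hs
        have he : s = Finsupp.embDomain e (Finsupp.single 0 (s j)) := by
          rw [Finsupp.embDomain_single]
          refine Finsupp.ext fun l => ?_
          by_cases hl : l = j
          · subst hl; simp [e]
          · have : l = i := by fin_cases i <;> fin_cases j <;> fin_cases l <;> simp_all
            subst this
            simp [e, Finsupp.single_eq_of_ne hij, hs]
        rw [he, ← MvPowerSeries.coeff_killCompl]
        exact congrArg (MvPowerSeries.coeff _) ha |>.trans (map_zero _)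
      obtain ⟨G', hG'⟩ := hdvd
      obtain ⟨G, rfl⟩ := map_surjective (Ideal.Quotient.mk (Ideal.span {π})) Ideal.Quotient.mk_surjective G'
      obtain ⟨H, hH⟩ := exists_eq_C_mul (π := π) (F - X i * G) (by
        rw [map_sub, map_mul, MvPowerSeries.map_X, hG', sub_self])
      rw [Ideal.mem_span_pair]
      refine ⟨Ideal.Quotient.mk _ H, Ideal.Quotient.mk _ G, ?_⟩
      rw [← map_mul, ← map_mul, ← map_add]
      congr 1
      linear_combination -hH
  constructor
  · rw [hker]; exact RingHom.ker_isPrime Φ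
  · rw [hker, RingHom.mem_ker, Ideal.Quotient.lift_mk, hXj]
    intro h
    have := congrArg (MvPowerSeries.coeff (Finsupp.single (0 : Fin 1) 1)) h
    classical
    rw [MvPowerSeries.coeff_X, if_pos rfl, map_zero] at this
    exact one_ne_zero this

/-- Truncation: contraction of an extended ideal along `R[x, y]/(xy - r) → R[[x, y]]/(xy - r)`. -/
theorem mem_sup_pow_of_coe_mem {r : R}
    (ι : (MvPolynomial (Fin 2) R ⧸ Ideal.span {(MvPolynomial.X 0 * MvPolynomial.X 1 - MvPolynomial.C r : MvPolynomial (Fin 2) R)}) →+*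
      (MvPowerSeries (Fin 2) R ⧸ Ideal.span {(X 0 * X 1 - C r : MvPowerSeries (Fin 2) R)}))
    (hι : ι.comp (Ideal.Quotient.mk _) =
      (Ideal.Quotient.mk _).comp (MvPolynomial.coeToMvPowerSeries.ringHom : MvPolynomial (Fin 2) R →+* MvPowerSeries (Fin 2) R))
    (P J : Ideal (MvPolynomial (Fin 2) R ⧸ Ideal.span {(MvPolynomial.X 0 * MvPolynomial.X 1 - MvPolynomial.C r : MvPolynomial (Fin 2) R)}))
    (hP : ∀ i, Ideal.Quotient.mk _ (MvPolynomial.X i) ∈ P) (n : ℕ) : (J.map ι).comap ι ≤ J ⊔ P ^ n := by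
  let B := MvPolynomial (Fin 2) R ⧸ Ideal.span {(MvPolynomial.X 0 * MvPolynomial.X 1 - MvPolynomial.C r : MvPolynomial (Fin 2) R)}
  have hle : MvPolynomial.idealOfVars (Fin 2) R ^ n ≤ (P ^ n).comap (Ideal.Quotient.mk _) := by
    rw [← Ideal.map_le_iff_le_comap, Ideal.map_pow]
    refine Ideal.pow_right_mono ?_ n
    rw [MvPolynomial.idealOfVars, Ideal.map_span, Ideal.span_le]
    rintro _ ⟨_, ⟨i, rfl⟩, rfl⟩
    exact hP i
  let θ₀ : MvPowerSeries (Fin 2) R →+* B ⧸ P ^ n :=
    (Ideal.quotientMap (P ^ n) (Ideal.Quotient.mk _) hle).comp (MvPowerSeries.truncTotalAlgHom (Fin 2) R n).toRingHom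
  have hθ : ∀ p : MvPolynomial (Fin 2) R, θ₀ (p : MvPowerSeries (Fin 2) R) = Ideal.Quotient.mk (P ^ n) (Ideal.Quotient.mk _ p) := by
    intro p
    have hc : MvPowerSeries.truncTotalAlgHom (Fin 2) R n (algebraMap (MvPolynomial (Fin 2) R) (MvPowerSeries (Fin 2) R) p) =
        Ideal.Quotient.mk _ p := AlgHom.commutes _ p
    show Ideal.quotientMap (P ^ n) (Ideal.Quotient.mk _) hle (MvPowerSeries.truncTotalAlgHom (Fin 2) R n (p : MvPowerSeries (Fin 2) R)) = _
    rw [show (p : MvPowerSeries (Fin 2) R) = algebraMap (MvPolynomial (Fin 2) R) (MvPowerSeries (Fin 2) R) p by rw [MvPowerSeries.algebraMap_apply', Algebra.algebraMap_self, MvPowerSeries.map_id]; rfl, hc, Ideal.quotientMap_mk]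
  have hrel : θ₀ (X 0 * X 1 - C r) = 0 := by
    have : (X 0 * X 1 - C r : MvPowerSeries (Fin 2) R) =
        ((MvPolynomial.X 0 * MvPolynomial.X 1 - MvPolynomial.C r : MvPolynomial (Fin 2) R) : MvPowerSeries (Fin 2) R) := by
      rw [← MvPolynomial.coeToMvPowerSeries.ringHom_apply, map_sub, map_mul]; simp
    rw [this, hθ, Ideal.Quotient.eq_zero_iff_mem.2 (Ideal.mem_span_singleton_self _), map_zero]
  have hrel' : Ideal.span {(X 0 * X 1 - C r : MvPowerSeries (Fin 2) R)} ≤ RingHom.ker θ₀ :=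
    Ideal.span_le.2 (Set.singleton_subset_iff.2 hrel)
  let θ := Ideal.Quotient.lift (Ideal.span {(X 0 * X 1 - C r : MvPowerSeries (Fin 2) R)}) θ₀ (fun a ha => hrel' ha)
  have hcomp : θ.comp ι = Ideal.Quotient.mk (P ^ n) := by
    refine Ideal.Quotient.ringHom_ext (RingHom.ext fun p => ?_)
    show θ (ι (Ideal.Quotient.mk _ p)) = Ideal.Quotient.mk _ (Ideal.Quotient.mk _ p)
    rw [show ι (Ideal.Quotient.mk _ p) = Ideal.Quotient.mk _ (p : MvPowerSeries (Fin 2) R) from RingHom.congr_fun hι p,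
      Ideal.Quotient.lift_mk, hθ]
  intro b hb
  have h := Ideal.mem_map_of_mem θ (Ideal.mem_comap.1 hb)
  rw [Ideal.map_map, hcomp, ← RingHom.comp_apply, hcomp] at h
  have h' : b ∈ (J.map (Ideal.Quotient.mk (P ^ n))).comap (Ideal.Quotient.mk (P ^ n)) := h
  rwa [Ideal.comap_map_of_surjective _ Ideal.Quotient.mk_surjective, ← RingHom.ker_eq_comap_bot, Ideal.mk_ker] at h'

/-- Primes containing `c ≠ 0` in a Noetherian domain have height one when they are minimal such. -/
theorem height_eq_one {A : Type*} [CommRing A] [IsDomain A] [IsNoetherianRing A] {c : A} (hc : c ≠ 0)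
    (Q : Ideal A) [Q.IsPrime] (hcQ : c ∈ Q)
    (hmin : ∀ Q' : Ideal A, Q'.IsPrime → c ∈ Q' → Q' ≤ Q → Q ≤ Q') : Q.height = 1 := by
  refine le_antisymm ?_ ?_
  · refine Ideal.height_le_one_of_isPrincipal_of_mem_minimalPrimes (Ideal.span {c}) Q
      ⟨⟨inferInstance, Ideal.span_le.2 (Set.singleton_subset_iff.2 hcQ)⟩, fun Q' hQ' hle => ?_⟩
    exact hmin Q' hQ'.1 (hQ'.2 (Ideal.mem_span_singleton_self c)) hle
  · have hlt : (⊥ : Ideal A) < Q := bot_lt_iff_ne_bot.2 fun h => hc (by rwa [h, Ideal.mem_bot] at hcQ)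
    have := Ideal.height_strict_mono_of_isPrime hlt
    exact Order.one_le_iff_pos.2 (lt_of_le_of_lt zero_le this)

theorem eq_of_le_of_height_eq_one {A : Type*} [CommRing A] [IsDomain A] [IsNoetherianRing A]
    {Q 𝔓 : Ideal A} [Q.IsPrime] [𝔓.IsPrime] (hQ : Q ≠ ⊥) (h : Q ≤ 𝔓) (hh : 𝔓.height = 1) : Q = 𝔓 := by
  by_contra hne
  have h1 : (⊥ : Ideal A) < Q := bot_lt_iff_ne_bot.2 hQ
  have h2 := Ideal.height_strict_mono_of_isPrime (lt_of_le_of_ne h hne)
  rw [hh, ENat.lt_one_iff_eq_zero] at h2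
  have h3 := Ideal.height_strict_mono_of_isPrime h1
  rw [h2] at h3
  exact not_lt_zero h3

end Groth.Agent.H1Node
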