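import Groth.Agent.H1Node.Basic

/-!
# Étale functions on the semistable node
-/

set_option autoImplicit false

universe u

open MvPolynomial

namespace Groth.Agent.H1Node

variable {V : Type u} [CommRing V] [IsDomain V] [IsDiscreteValuationRing V] {ϖ : V}

local notation "P" => MvPolynomial (Fin 2) V
local notation "Q" ϖ:max => MvPolynomial (Fin 2) V ⧸ Ideal.span {(X 0 * X 1 - C ϖ : MvPolynomial (Fin 2) V)}
local notation "k" => IsLocalRing.ResidueField V

/-- Pairs `(h, d)`: `h` avoids the closed point and `d` is the derivation `xᵢ∂ᵢ - xⱼ∂ⱼ`. -/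
theorem component {i j : Fin 2} (hij : i ≠ j) (hπ : Irreducible ϖ) (h : Q ϖ)
    (hh : h ∉ Ideal.span ({Ideal.Quotient.mk _ (X 0), Ideal.Quotient.mk _ (X 1)} : Set (Q ϖ))) :
    ∃ (C : Type u) (_ : CommRing C) (_ : IsDomain C) (_ : Algebra V C) (_ : Algebra (Localization.Away h) C)
      (_ : IsScalarTower V (Localization.Away h) C),
      Function.Surjective (algebraMap (Localization.Away h) C) ∧
      RingHom.ker (algebraMap (Localization.Away h) C) = Ideal.span {ι h (X i)} ∧
      algebraMap (Localization.Away h) C (ι h (X j)) ≠ 0 ∧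
      (CharZero k → ∀ (f : Localization.Away h) (d : Derivation V (Localization.Away h) C),
        d (ι h (X i)) = 0 → d (ι h (X j)) = 1 → d f = 0 →
        ¬ (Polynomial.aeval f : Polynomial V →ₐ[V] Localization.Away h).toRingHom.QuasiFinite) := by
  classical
  obtain ⟨σ, hσi, hσj, hσs, hσk⟩ := exists_toPoly ϖ hij hπ
  obtain ⟨hb, hhb⟩ : ∃ hb, σ h = hb := ⟨_, rfl⟩
  have hb0 : hb ≠ 0 := fun h0 => hh (by
    refine Ideal.span_mono ?_ (hσk h (hhb.trans h0))
    intro z hz
    rw [Set.mem_singleton_iff] at hz
    subst hz
    fin_cases i <;> simp)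
  have hpow : Submonoid.powers hb ≤ nonZeroDivisors (Polynomial k) :=
    powers_le_nonZeroDivisors_of_noZeroDivisors hb0
  haveI : IsDomain (Localization.Away hb) := IsLocalization.isDomain_localization hpow
  have hinj : Function.Injective (algebraMap (Polynomial k) (Localization.Away hb)) :=
    IsLocalization.injective _ hpow
  have hunit : ∀ s : Submonoid.powers h,
      IsUnit ((IsScalarTower.toAlgHom V (Polynomial k) (Localization.Away hb)).comp σ s) := by
    rintro ⟨_, n, rfl⟩
    rw [map_pow]
    refine IsUnit.pow n ?_
    rw [AlgHom.comp_apply, hhb]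
    exact IsLocalization.Away.algebraMap_isUnit hb
  let σB : Localization.Away h →ₐ[V] Localization.Away hb := IsLocalization.liftAlgHom hunit
  have hσB : ∀ q : Q ϖ, σB (algebraMap (Q ϖ) _ q) = algebraMap (Polynomial k) (Localization.Away hb) (σ q) :=
    fun q => IsLocalization.lift_eq _ _
  letI : Algebra (Localization.Away h) (Localization.Away hb) := σB.toAlgebra
  haveI : IsScalarTower V (Localization.Away h) (Localization.Away hb) :=
    IsScalarTower.of_algebraMap_eq fun v => (σB.commutes v).symm
  have hker : RingHom.ker (algebraMap (Localization.Away h) (Localization.Away hb)) = Ideal.span {ι h (X i)} := by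
    refine le_antisymm (fun b hb' => ?_) (Ideal.span_le.2 (Set.singleton_subset_iff.2 ?_))
    · obtain ⟨⟨q, s⟩, hs⟩ := IsLocalization.surj (Submonoid.powers h) b
      have h1 : σ q = 0 := hinj (by
        rw [map_zero, ← hσB, ← hs, map_mul]
        exact mul_eq_zero_of_left hb' _)
      rw [← Ideal.mul_unit_mem_iff_mem _ (IsLocalization.map_units (Localization.Away h) s), hs]
      have := Ideal.mem_map_of_mem (algebraMap (Q ϖ) (Localization.Away h)) (hσk q h1)
      rwa [Ideal.map_span, Set.image_singleton] at this
    · show σB (ι h (X i)) = 0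
      exact (hσB _).trans ((congrArg _ hσi).trans (map_zero _))
  have hY : algebraMap (Localization.Away h) (Localization.Away hb) (ι h (X j)) ≠ 0 := fun h0 =>
    Polynomial.X_ne_zero (hinj (by rw [map_zero, ← hσj, ← hσB]; exact h0))
  have hsurj : Function.Surjective (algebraMap (Localization.Away h) (Localization.Away hb)) := by
    intro c
    obtain ⟨⟨p, ⟨_, n, rfl⟩⟩, hc⟩ := IsLocalization.surj (Submonoid.powers hb) c
    obtain ⟨q, rfl⟩ := hσs p
    refine ⟨IsLocalization.mk' _ q (⟨h ^ n, n, rfl⟩ : Submonoid.powers h), ?_⟩
    have hu : IsUnit (algebraMap (Polynomial k) (Localization.Away hb) (hb ^ n)) := by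
      rw [map_pow]; exact (IsLocalization.Away.algebraMap_isUnit hb).pow n
    refine hu.mul_right_cancel ?_
    rw [hc]
    show σB _ * _ = _
    have hn : σ (h ^ n) = hb ^ n := by rw [map_pow, hhb]
    rw [← hn, ← hσB, ← map_mul, IsLocalization.mk'_spec, hσB]
  refine ⟨Localization.Away hb, inferInstance, inferInstance, inferInstance, inferInstance, inferInstance,
    hsurj, hker, hY, ?_⟩
  intro _ f d hdi hdj hdf hqf
  have hder : ∀ p : P, d (ι h p) =
      algebraMap (Polynomial k) (Localization.Away hb) (Polynomial.derivative (σ (Ideal.Quotient.mk _ p))) := by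
    intro p
    induction p using MvPolynomial.induction_on with
    | C a =>
      rw [show ι h (C a) = algebraMap V _ a from (ι h).commutes a, Derivation.map_algebraMap,
        show σ (Ideal.Quotient.mk _ (C a)) = algebraMap V _ a from σ.commutes a,
        IsScalarTower.algebraMap_apply V k (Polynomial k), Polynomial.algebraMap_eq, Polynomial.derivative_C, map_zero]
    | add p q hp hq => rw [map_add, map_add, map_add, map_add, map_add, map_add, hp, hq]
    | mul_X p l hp =>
      have hl : d (ι h (X l)) = algebraMap (Polynomial k) (Localization.Away hb)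
          (Polynomial.derivative (σ (Ideal.Quotient.mk _ (X l)))) := by
        rcases eq_or_ne l j with rfl | hl
        · rw [hdj, hσj, Polynomial.derivative_X, map_one]
        · obtain rfl : l = i := by omega
          rw [hdi, hσi, map_zero, map_zero]
      rw [map_mul (ι h), Derivation.leibniz, hp, hl, map_mul, map_mul, Polynomial.derivative_mul, map_add, map_mul,
        map_mul, Algebra.smul_def, Algebra.smul_def]
      show σB (ι h p) * _ + σB (ι h (X l)) * _ = _
      rw [show σB (ι h p) = algebraMap (Polynomial k) (Localization.Away hb) (σ (Ideal.Quotient.mk _ p)) from hσB _,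
        show σB (ι h (X l)) = algebraMap (Polynomial k) (Localization.Away hb) (σ (Ideal.Quotient.mk _ (X l)))
          from hσB _]
      ring
  obtain ⟨⟨q, s⟩, hs⟩ := IsLocalization.surj (Submonoid.powers h) f
  obtain ⟨q', rfl⟩ := Ideal.Quotient.mk_surjective q
  obtain ⟨s', hs'⟩ := Ideal.Quotient.mk_surjective (s : Q ϖ)
  obtain ⟨p, hp⟩ : ∃ p, σ (Ideal.Quotient.mk _ q') = p := ⟨_, rfl⟩
  obtain ⟨S, hS⟩ : ∃ S, σ (Ideal.Quotient.mk _ s') = S := ⟨_, rfl⟩
  have hfs : f * ι h s' = ι h q' := (congrArg (fun z => f * algebraMap _ _ z) hs').trans hs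
  have h1 : σB f * algebraMap _ (Localization.Away hb) S = algebraMap _ (Localization.Away hb) p := by
    rw [← hS, ← hp, ← hσB, ← hσB, ← map_mul]
    exact congrArg σB hfs
  have h2 : σB f * algebraMap _ (Localization.Away hb) (Polynomial.derivative S) =
      algebraMap _ (Localization.Away hb) (Polynomial.derivative p) := by
    rw [← hS, ← hp, ← hder, ← hder, ← hfs, Derivation.leibniz, hdf, smul_zero, add_zero, Algebra.smul_def]
    rfl
  have h3 : Polynomial.derivative p * S = p * Polynomial.derivative S := hinj (by
    rw [map_mul, map_mul, ← h1, ← h2]; ring)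
  have hS0 : S ≠ 0 := by
    obtain ⟨m, hm⟩ := s.2
    rw [← hS, hs', ← hm]
    show σ (h ^ m) ≠ 0
    rw [map_pow, hhb]
    exact pow_ne_zero m hb0
  obtain ⟨c, hc⟩ : ∃ c : k, p = Polynomial.C c * S := by
    by_cases hp0 : p = 0
    · exact ⟨0, by simp [hp0]⟩
    by_contra hne
    push Not at hne
    refine hne (p.leadingCoeff / S.leadingCoeff) (sub_eq_zero.1 ?_)
    obtain ⟨r, hr⟩ : ∃ r, p - Polynomial.C (p.leadingCoeff / S.leadingCoeff) * S = r := ⟨_, rfl⟩
    rw [hr]
    have h4 : Polynomial.derivative r * S = r * Polynomial.derivative S := by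
      rw [← hr, Polynomial.derivative_sub, Polynomial.derivative_C_mul, sub_mul, sub_mul, h3]; ring
    have hdeg : ∀ u : Polynomial k, u ≠ 0 → Polynomial.derivative u * S = u * Polynomial.derivative S →
        u.natDegree = S.natDegree := by
      intro u hu0 hu
      by_contra hne'
      rcases Nat.eq_zero_or_pos (u.natDegree + S.natDegree) with h0 | h0
      · omega
      have key := congrArg (fun w => Polynomial.coeff w (u.natDegree + S.natDegree - 1)) hu
      have e : ∀ a b : Polynomial k, 0 < a.natDegree + b.natDegree →
          (Polynomial.derivative a * b).coeff (a.natDegree + b.natDegree - 1) =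
            (a.natDegree : k) * a.leadingCoeff * b.leadingCoeff := by
        intro a b hab
        rcases Nat.eq_zero_or_pos a.natDegree with ha | ha
        · rw [Polynomial.derivative_of_natDegree_zero ha, zero_mul, Polynomial.coeff_zero, ha]; simp
        rw [show a.natDegree + b.natDegree - 1 = (a.natDegree - 1) + b.natDegree by omega,
          Polynomial.coeff_mul_add_eq_of_natDegree_le (Polynomial.natDegree_derivative_le a) le_rfl,
          Polynomial.coeff_derivative, show a.natDegree - 1 + 1 = a.natDegree by omega]
        rw [show ((a.natDegree - 1 : ℕ) : k) + 1 = (a.natDegree : k) by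
          rw [Nat.cast_sub (by omega)]; push_cast; ring]
        simp only [Polynomial.leadingCoeff]; ring
      rw [e u S h0, mul_comm u, show u.natDegree + S.natDegree - 1 = S.natDegree + u.natDegree - 1 by omega,
        e S u (by omega)] at key
      have : ((u.natDegree : k) - S.natDegree) * (u.leadingCoeff * S.leadingCoeff) = 0 := by linear_combination key
      rcases mul_eq_zero.1 this with h5 | h5
      · exact hne' (Nat.cast_injective (R := k) (sub_eq_zero.1 h5))
      · exact (mul_ne_zero (Polynomial.leadingCoeff_ne_zero.2 hu0) (Polynomial.leadingCoeff_ne_zero.2 hS0)) h5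
    by_contra hr0
    have hd := hdeg r hr0 h4
    have hdp := hdeg p hp0 h3
    have hcoef : r.coeff S.natDegree = 0 := by
      rw [← hr, Polynomial.coeff_sub, Polynomial.coeff_C_mul, ← hdp, show p.coeff p.natDegree = p.leadingCoeff from rfl,
        hdp, show S.coeff S.natDegree = S.leadingCoeff from rfl,
        div_mul_cancel₀ _ (Polynomial.leadingCoeff_ne_zero.2 hS0), sub_self]
    rw [← hd] at hcoef
    exact hr0 (Polynomial.leadingCoeff_eq_zero.1 hcoef)
  have hf0 : σB f = algebraMap k (Localization.Away hb) c := by
    refine mul_right_cancel₀ (fun h0 => hS0 (hinj (h0.trans (map_zero _).symm))) (h1.trans ?_)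
    rw [hc, map_mul, IsScalarTower.algebraMap_apply k (Polynomial k) (Localization.Away hb), Polynomial.algebraMap_eq]
  have hq1 : (σB.toRingHom.comp (Polynomial.aeval f : Polynomial V →ₐ[V] Localization.Away h).toRingHom).QuasiFinite :=
    (RingHom.QuasiFinite.of_finite (RingHom.Finite.of_surjective σB.toRingHom hsurj)).comp hqf
  have hcomp : σB.toRingHom.comp (Polynomial.aeval f : Polynomial V →ₐ[V] Localization.Away h).toRingHom =
      (algebraMap k (Localization.Away hb)).comp (Polynomial.eval₂RingHom (IsLocalRing.residue V) c) := by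
    refine Polynomial.ringHom_ext (fun a => ?_) ?_
    · show σB (Polynomial.aeval f (Polynomial.C a)) = algebraMap k _ (Polynomial.eval₂ _ c (Polynomial.C a))
      rw [Polynomial.aeval_C, Polynomial.eval₂_C, AlgHom.commutes,
        IsScalarTower.algebraMap_apply V k (Localization.Away hb)]
      rfl
    · show σB (Polynomial.aeval f Polynomial.X) = algebraMap k _ (Polynomial.eval₂ _ c Polynomial.X)
      rw [Polynomial.aeval_X, Polynomial.eval₂_X, hf0]
  rw [hcomp] at hq1
  haveI : Algebra.QuasiFinite k (Localization.Away hb) :=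
    RingHom.quasiFinite_algebraMap.1 hq1.of_comp
  haveI : Module.Finite k (Localization.Away hb) := Algebra.QuasiFinite.iff_of_isArtinianRing.1 inferInstance
  haveI : Module.Finite k (Polynomial k) :=
    Module.Finite.of_injective (IsScalarTower.toAlgHom k (Polynomial k) (Localization.Away hb)).toLinearMap hinj
  exact (Polynomial.not_finite (R := k)) inferInstance

end Groth.Agent.H1Node
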