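import Groth.Agent.H1Node.Basic

/-!
# The closed point of the node and the differential on a component
-/

set_option autoImplicit false

universe u

open MvPolynomial

namespace Groth.Agent.H1Node

variable {V : Type u} [CommRing V] [IsDomain V] [IsDiscreteValuationRing V] {ϖ : V}

local notation "P" => MvPolynomial (Fin 2) V
local notation "Q" ϖ:max => MvPolynomial (Fin 2) V ⧸ Ideal.span {(X 0 * X 1 - C ϖ : MvPolynomial (Fin 2) V)}
local notation "k" => IsLocalRing.ResidueField V

theorem exists_ev (hϖ : Irreducible ϖ) (h : Q ϖ)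
    (hh : h ∉ Ideal.span ({Ideal.Quotient.mk _ (X 0), Ideal.Quotient.mk _ (X 1)} : Set (Q ϖ))) :
    ∃ ev : Localization.Away h →ₐ[V] k, ∀ i, ev (ι h (X i)) = 0 := by
  have hker : ∀ p ∈ Ideal.span {(X 0 * X 1 - C ϖ : P)}, aeval (fun _ : Fin 2 => (0 : k)) p = 0 := fun p hp => by
    obtain ⟨q, rfl⟩ := Ideal.mem_span_singleton'.1 hp
    simp [IsLocalRing.ResidueField.algebraMap_eq, hϖ.not_isUnit]
  have hh0 : Ideal.Quotient.liftₐ _ _ hker h ≠ 0 := by
    intro h0
    obtain ⟨p, rfl⟩ := Ideal.Quotient.mk_surjective h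
    refine hh ?_
    change aeval (fun _ : Fin 2 => (0 : k)) p = 0 at h0
    obtain ⟨R, hR⟩ := Ideal.mem_span_singleton'.1 (sub_mem_span (i := 0) (j := 1) (by decide) p)
    obtain ⟨R', hR'⟩ := Ideal.mem_span_singleton'.1 (sub_mem_span (i := 1) (j := 0) (by decide)
      (aeval (Pi.single 1 (X 1) : Fin 2 → P) p))
    have hC : ∀ q : P, aeval (Pi.single 0 (X 0) : Fin 2 → P) (aeval (Pi.single 1 (X 1) : Fin 2 → P) q) =
        C (constantCoeff q) := by
      intro q
      induction q using MvPolynomial.induction_on with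
      | C r => simp
      | add q r hq hr => simp only [map_add, hq, hr]
      | mul_X q l hq =>
        rw [map_mul, map_mul, map_mul, hq]
        fin_cases l <;> simp
    rw [hC] at hR'
    have h0' : IsLocalRing.residue V (constantCoeff p) = 0 := by
      refine Eq.trans ?_ h0
      have key : ∀ q : P, IsLocalRing.residue V (constantCoeff q) = aeval (fun _ : Fin 2 => (0 : k)) q := by
        intro q
        induction q using MvPolynomial.induction_on with
        | C r => simp [IsLocalRing.ResidueField.algebraMap_eq]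
        | add q r hq hr => simp only [map_add, hq, hr]
        | mul_X q l hq => simp
      exact key p
    obtain ⟨v, hv⟩ := Ideal.mem_span_singleton'.1 (hϖ.maximalIdeal_eq ▸ (IsLocalRing.residue_eq_zero_iff _).1 h0')
    rw [show p = R * X 0 + R' * X 1 + C v * C ϖ by rw [← map_mul, hv, hR, hR']; ring, map_add, map_add, map_mul,
      map_mul, map_mul]
    refine add_mem (add_mem (Ideal.mul_mem_left _ _ (Ideal.subset_span (Or.inl rfl)))
      (Ideal.mul_mem_left _ _ (Ideal.subset_span (Or.inr rfl)))) (Ideal.mul_mem_left _ _ ?_)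
    have he : Ideal.Quotient.mk (Ideal.span {(X 0 * X 1 - C ϖ : P)}) (X 0) * Ideal.Quotient.mk _ (X 1) =
        Ideal.Quotient.mk _ (C ϖ) := mk_X_mul
    rw [← he]
    exact Ideal.mul_mem_right _ _ (Ideal.subset_span (Or.inl rfl))
  refine ⟨IsLocalization.liftAlgHom (M := Submonoid.powers h) (f := Ideal.Quotient.liftₐ _ _ hker) ?_, fun i => ?_⟩
  · rintro ⟨_, n, rfl⟩
    rw [map_pow]
    exact (Ne.isUnit hh0).pow n
  · exact (IsLocalization.lift_eq _ _).trans (aeval_X _ i)

theorem exists_smulRight {B B' C M : Type u} [CommRing B] [CommRing B'] [CommRing C] [AddCommGroup M]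
    [Algebra B B'] [Algebra B C] [Module B' M] [Module B M] [IsScalarTower B B' M] (τ : C →+* B')
    (hτ : ∀ b, τ (algebraMap B C b) = algebraMap B B' b) (w : M) :
    ∃ L : C →ₗ[B] M, ∀ c, L c = τ c • w :=
  ⟨{ toFun := fun c => τ c • w
     map_add' := fun a b => by rw [map_add, add_smul]
     map_smul' := fun r c => by
       rw [RingHom.id_apply, Algebra.smul_def, map_mul, hτ, mul_smul, algebraMap_smul] }, fun _ => rfl⟩

/-- If the derivation `± (xᵢ∂ᵢ - xⱼ∂ⱼ)` kills `f` on a component, the differential of `f` there is zero. -/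
theorem diff_eq_zero (h : Q ϖ) {i j : Fin 2} (hij : i ≠ j) {C : Type u} [CommRing C] [IsDomain C] [Algebra V C]
    [Algebra (Localization.Away h) C] [IsScalarTower V (Localization.Away h) C]
    (hsC : Function.Surjective (algebraMap (Localization.Away h) C))
    (hkC : RingHom.ker (algebraMap (Localization.Away h) C) = Ideal.span {ι h (X i)})
    (hyC : algebraMap (Localization.Away h) C (ι h (X j)) ≠ 0)
    (d : Derivation V (Localization.Away h) (Localization.Away h)) (ε : Localization.Away h)
    (hdi : d (ι h (X i)) = ε * ι h (X i)) (hdj : d (ι h (X j)) = -ε * ι h (X j)) (hε : ε * ε = 1)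
    (f : Localization.Away h) (hmem : d f ∈ Ideal.span {ι h (X i)}) :
    KaehlerDifferential.D V (Localization.Away h ⧸ Ideal.span {ι h (X i)}) (Ideal.Quotient.mk _ f) = 0 ∧
      ∃ dC : Derivation V (Localization.Away h) C, dC (ι h (X i)) = 0 ∧ dC (ι h (X j)) = 1 ∧ dC f = 0 := by
  have hall : ∀ l : Fin 2, l = i ∨ l = j := fun l => by omega
  have hxi : algebraMap (Localization.Away h) C (ι h (X i)) = 0 := by
    rw [← RingHom.mem_ker, hkC]; exact Ideal.mem_span_singleton_self _
  obtain ⟨dC, hCi, hCj⟩ : ∃ dC : Derivation V (Localization.Away h) C,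
      dC (ι h (X i)) = 0 ∧ dC (ι h (X j)) = 1 := by
    fin_cases i <;> fin_cases j <;> try exact absurd rfl hij
    · obtain ⟨dC, -, h0, h1, -⟩ := exists_der h C 0 1 (by simpa using hxi)
      exact ⟨dC, h0, h1⟩
    · obtain ⟨dC, -, h0, h1, -⟩ := exists_der h C 1 0 (by simpa using hxi)
      exact ⟨dC, h1, h0⟩
  have hcomp : (Algebra.linearMap (Localization.Away h) C).compDer d = (-ε * ι h (X j)) • dC := by
    refine der_ext _ _ fun l => ?_
    show algebraMap (Localization.Away h) C (d (ι h (X l))) = (-ε * ι h (X j)) • dC (ι h (X l))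
    rcases hall l with hl | hl <;> rw [hl]
    · rw [hdi, hCi, smul_zero, map_mul, hxi, mul_zero]
    · rw [hdj, hCj, Algebra.smul_def, mul_one]
  have hdCf : dC f = 0 := by
    have h1 : algebraMap (Localization.Away h) C (d f) = (-ε * ι h (X j)) • dC f := Derivation.congr_fun hcomp f
    rw [show algebraMap _ C (d f) = 0 by rwa [← RingHom.mem_ker, hkC], Algebra.smul_def, eq_comm] at h1
    refine (mul_eq_zero.1 h1).resolve_left ?_
    rw [map_mul]
    exact mul_ne_zero (IsUnit.ne_zero ((IsUnit.of_mul_eq_one (-ε) (by rw [neg_mul_neg, hε])).map _)) hyC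
  refine ⟨?_, dC, hCi, hCj, hdCf⟩
  obtain ⟨τ, hτ⟩ : ∃ τ : C →+* Localization.Away h ⧸ Ideal.span {ι h (X i)},
      ∀ b, τ (algebraMap _ C b) = Ideal.Quotient.mk _ b :=
    ⟨(Ideal.quotEquivOfEq hkC).toRingHom.comp (RingHom.quotientKerEquivOfSurjective hsC).symm.toRingHom, fun b => by
      show Ideal.quotEquivOfEq hkC ((RingHom.quotientKerEquivOfSurjective hsC).symm (algebraMap _ C b)) = _
      rw [show (RingHom.quotientKerEquivOfSurjective hsC).symm (algebraMap _ C b) = Ideal.Quotient.mk _ b from
        (RingHom.quotientKerEquivOfSurjective hsC).symm_apply_eq.2 rfl]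
      rfl⟩
  obtain ⟨L, hL⟩ := exists_smulRight τ hτ
    (KaehlerDifferential.D V _ (Ideal.Quotient.mk (Ideal.span {ι h (X i)}) (ι h (X j))))
  have hD : ((KaehlerDifferential.D V (Localization.Away h ⧸ Ideal.span {ι h (X i)})).compAlgebraMap
      (Localization.Away h)) = L.compDer dC := by
    refine der_ext _ _ fun l => ?_
    show KaehlerDifferential.D V (Localization.Away h ⧸ Ideal.span {ι h (X i)})
      (Ideal.Quotient.mk (Ideal.span {ι h (X i)}) (ι h (X l))) = L (dC (ι h (X l)))
    rcases hall l with hl | hl <;> rw [hl]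
    · rw [hCi, map_zero, Ideal.Quotient.eq_zero_iff_mem.2 (Ideal.mem_span_singleton_self _), map_zero]
    · rw [hCj, hL, map_one]
      exact (one_smul _ _).symm
  have h2 : KaehlerDifferential.D V (Localization.Away h ⧸ Ideal.span {ι h (X i)})
      (Ideal.Quotient.mk (Ideal.span {ι h (X i)}) f) = L (dC f) := Derivation.congr_fun hD f
  rw [h2, hdCf, map_zero]

end Groth.Agent.H1Node
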