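import Mathlib

/-!
# Generic lemmas for derivations along an étale function
-/

set_option autoImplicit false

universe u

namespace Groth.Agent.H1Node

variable {V B : Type u} [CommRing V] [CommRing B] [Algebra V B]

/-- A point killing the derivative of an étale function kills every eigenvector of the derivation. -/
theorem eq_zero_of_der {C : Type u} [CommRing C] [Algebra V C] (d : Derivation V B B) (f a w : B) (hda : d a = a)
    (hf : ((algebraMap B (Localization.Away w)).comp
      (Polynomial.aeval f : Polynomial V →ₐ[V] B).toRingHom).Etale)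
    (φ' : Localization.Away w →ₐ[V] C) (hdf' : φ' (algebraMap B (Localization.Away w) (d f)) = 0) :
    φ' (algebraMap B (Localization.Away w) a) = 0 := by
  obtain ⟨φ, hφ⟩ : ∃ φ : B →ₐ[V] C, φ = φ'.comp (IsScalarTower.toAlgHom V B (Localization.Away w)) := ⟨_, rfl⟩
  have hdf : φ (d f) = 0 := by rw [hφ]; exact hdf'
  let ψ : B →ₐ[V] DualNumber C :=
    AlgHom.ofLinearMap
      { toFun := fun b => TrivSqZeroExt.inl (φ b) + TrivSqZeroExt.inr (φ (d b))
        map_add' := fun x y => by simp only [map_add, TrivSqZeroExt.inl_add, TrivSqZeroExt.inr_add]; abel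
        map_smul' := fun r x => by
          simp only [map_smul, RingHom.id_apply]
          exact TrivSqZeroExt.ext (by simp) (by simp) }
      (by
        refine TrivSqZeroExt.ext ?_ ?_ <;> simp)
      (fun x y => by
        refine TrivSqZeroExt.ext ?_ ?_
        · simp
        · simp [DualNumber.snd_mul, Derivation.leibniz]; ring)
  have hψ : ∀ b, (ψ b).fst = φ b ∧ (ψ b).snd = φ (d b) := fun b => ⟨by simp [ψ], by simp [ψ]⟩
  have hwu : ∀ y : Submonoid.powers w, IsUnit (ψ y) := by
    rintro ⟨_, n, rfl⟩
    rw [map_pow]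
    refine IsUnit.pow n (TrivSqZeroExt.isUnit_iff_isUnit_fst.2 ?_)
    rw [(hψ w).1, hφ]
    exact (IsLocalization.Away.algebraMap_isUnit w).map φ'
  obtain ⟨ψ', hψ'⟩ : ∃ ψ' : Localization.Away w →ₐ[V] DualNumber C,
      ∀ b, ψ' (algebraMap _ _ b) = ψ b := by
    refine ⟨IsLocalization.liftAlgHom (M := Submonoid.powers w) hwu, fun b => ?_⟩
    exact IsLocalization.lift_eq _ _
  letI : Algebra (Polynomial V) (Localization.Away w) :=
    ((algebraMap B (Localization.Away w)).comp (Polynomial.aeval f : Polynomial V →ₐ[V] B).toRingHom).toAlgebra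
  haveI : Algebra.Etale (Polynomial V) (Localization.Away w) := hf
  letI : Algebra (Polynomial V) (DualNumber C) :=
    (ψ'.toRingHom.comp (algebraMap (Polynomial V) (Localization.Away w))).toAlgebra
  have hfst : ∀ b, (ψ' b).fst = φ' b := by
    intro b
    refine DFunLike.congr_fun (f := (TrivSqZeroExt.fstHom V _ _).comp ψ') (g := φ') ?_ b
    refine IsLocalization.algHom_ext (Submonoid.powers w) (AlgHom.ext fun x => ?_)
    show (ψ' (algebraMap _ _ x)).fst = _
    rw [hψ', (hψ x).1, hφ]
    rfl
  let g₁ : Localization.Away w →ₐ[Polynomial V] DualNumber C :=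
    { ψ'.toRingHom with commutes' := fun _ => rfl }
  let g₂ : Localization.Away w →ₐ[Polynomial V] DualNumber C :=
    { (TrivSqZeroExt.inlHom _ _).comp φ'.toRingHom with
      commutes' := fun p => by
        refine RingHom.congr_fun (f := ((TrivSqZeroExt.inlHom _ _).comp φ'.toRingHom).comp
          (algebraMap (Polynomial V) _)) (g := ψ'.toRingHom.comp (algebraMap (Polynomial V) _))
          (Polynomial.ringHom_ext (fun r => ?_) ?_) p
        · show TrivSqZeroExt.inl (φ' (algebraMap _ _ (Polynomial.aeval f (Polynomial.C r)))) =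
            ψ' (algebraMap _ _ (Polynomial.aeval f (Polynomial.C r)))
          rw [hψ', Polynomial.aeval_C, AlgHom.commutes, ← IsScalarTower.algebraMap_apply]
          simp [TrivSqZeroExt.algebraMap_eq_inl']
        · show TrivSqZeroExt.inl (φ' (algebraMap _ _ (Polynomial.aeval f Polynomial.X))) =
            ψ' (algebraMap _ _ (Polynomial.aeval f Polynomial.X))
          rw [hψ', Polynomial.aeval_X]
          refine TrivSqZeroExt.ext ?_ ?_
          · rw [(hψ f).1, hφ]; rfl
          · rw [(hψ f).2, hdf]; rfl }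
  have hg : g₁ = g₂ := by
    refine Algebra.FormallyUnramified.ext (RingHom.ker ((TrivSqZeroExt.fstHom V C C : DualNumber C →ₐ[V] C) : DualNumber C →+* C)) ⟨2, ?_⟩ fun b => ?_
    · rw [pow_two, Ideal.zero_eq_bot, eq_bot_iff, Ideal.mul_le]
      intro x hx y hy
      rw [RingHom.mem_ker] at hx hy
      change x.fst = 0 at hx
      change y.fst = 0 at hy
      rw [Ideal.mem_bot]
      refine TrivSqZeroExt.ext ?_ ?_
      · simp [hx]
      · simp [DualNumber.snd_mul, hx, hy]
    · rw [Ideal.Quotient.eq, RingHom.mem_ker, map_sub, sub_eq_zero]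
      exact hfst b
  have hx0 := congrArg TrivSqZeroExt.snd (AlgHom.congr_fun hg (algebraMap _ _ a))
  change (ψ' (algebraMap _ _ a)).snd = 0 at hx0
  rw [hψ', (hψ _).2, hda, hφ] at hx0
  exact hx0

/-- A function étale after inverting `w` has invertible derivative along a derivation with a unit
eigenvector. -/
theorem isUnit_der (d : Derivation V B B) (f a w : B) (hda : d a = a)
    (ha : IsUnit (algebraMap B (Localization.Away w) a))
    (hf : ((algebraMap B (Localization.Away w)).comp
      (Polynomial.aeval f : Polynomial V →ₐ[V] B).toRingHom).Etale) :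
    IsUnit (algebraMap B (Localization.Away w) (d f)) := by
  by_contra hu
  obtain ⟨m, hm, hfm⟩ := exists_max_ideal_of_mem_nonunits hu
  exact hm.ne_top (Ideal.eq_top_of_isUnit_mem _ (Ideal.Quotient.eq_zero_iff_mem.1
    (eq_zero_of_der d f a w hda hf (Ideal.Quotient.mkₐ V m) (Ideal.Quotient.eq_zero_iff_mem.2 hfm))) ha)

/-- In a ring where `x`, `y` are nonzerodivisors generating primes, a divisor of `x ^ a * y ^ b`
outside both primes is a unit. -/
theorem exists_inv_of_dvd_pow (x y g : B) (hx : ∀ b, x * b = 0 → b = 0) (hy : ∀ b, y * b = 0 → b = 0)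
    (hpx : (Ideal.span {x}).IsPrime) (hpy : (Ideal.span {y}).IsPrime)
    (hgx : g ∉ Ideal.span {x}) (hgy : g ∉ Ideal.span {y}) :
    ∀ a b : ℕ, ∀ c, g * c = x ^ a * y ^ b → ∃ c', g * c' = 1 := by
  intro a
  induction a with
  | zero =>
    intro b
    induction b with
    | zero => intro c hc; exact ⟨c, by simpa using hc⟩
    | succ b ih =>
      intro c hc
      have h1 : g * c ∈ Ideal.span {y} := by
        rw [hc]
        exact Ideal.mul_mem_left _ _ (Ideal.pow_mem_of_mem _ (Ideal.mem_span_singleton_self _) _ b.succ_pos)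
      obtain ⟨c', rfl⟩ := Ideal.mem_span_singleton'.1 ((hpy.mem_or_mem h1).resolve_left hgy)
      refine ih c' (sub_eq_zero.1 (hy _ ?_))
      linear_combination hc
  | succ a ih =>
    intro b c hc
    have h1 : g * c ∈ Ideal.span {x} := by
      rw [hc]
      exact Ideal.mul_mem_right _ _ (Ideal.pow_mem_of_mem _ (Ideal.mem_span_singleton_self _) _ a.succ_pos)
    obtain ⟨c', rfl⟩ := Ideal.mem_span_singleton'.1 ((hpx.mem_or_mem h1).resolve_left hgx)
    refine ih b c' (sub_eq_zero.1 (hx _ ?_))
    linear_combination hc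

end Groth.Agent.H1Node
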